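import Groth.Agent.Proj16.ValSection
import Groth.Agent.RegLoc6.Basic
import Groth.Agent.FlatDense.Basic
import Mathlib.AlgebraicGeometry.SpreadingOut
import Mathlib.AlgebraicGeometry.PullbackCarrier
import Mathlib.RingTheory.DiscreteValuationRing.TFAE

/-! Sections extend over points of codimension at most one. -/

set_option autoImplicit false
set_option linter.style.haveILetI false
set_option backward.isDefEq.respectTransparency.types false

universe u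

open CategoryTheory CategoryTheory.Limits AlgebraicGeometry IsLocalRing TopologicalSpace

namespace Groth.Agent.SecExt

variable {X Y : Scheme.{u}}

/-- Base change along a preimmersion preserves closed maps. -/
theorem isClosedMap_pullback_snd (f : X ⟶ Y) {T : Scheme.{u}} (i : T ⟶ Y) [IsPreimmersion i]
    (hf : IsClosedMap f) : IsClosedMap (pullback.snd f i) := by
  intro C hC
  obtain ⟨C₀, hC₀, rfl⟩ := (pullback.fst f i).isEmbedding.isInducing.isClosed_iff.mp hC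
  convert (hf _ hC₀).preimage i.continuous using 1
  have hw : ∀ z, f (pullback.fst f i z) = i (pullback.snd f i z) := fun z => by
    rw [← Scheme.Hom.comp_apply, ← Scheme.Hom.comp_apply, pullback.condition]
  ext t
  constructor
  · rintro ⟨z, hz, rfl⟩
    exact ⟨_, hz, hw z⟩
  · rintro ⟨x, hx, hxt⟩
    obtain ⟨z, rfl⟩ : x ∈ Set.range (pullback.fst f i) := by
      rw [Scheme.Pullback.range_fst]
      exact ⟨t, hxt.symm⟩
    exact ⟨z, hx, i.isEmbedding.injective ((hw z).symm.trans hxt)⟩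

theorem exists_section_cat {A : CommRingCat.{u}} [IsDomain A] [ValuationRing A] {Z : Scheme.{u}} (g : Z ⟶ Spec A)
    (hg : IsClosedMap g) (x : Spec (CommRingCat.of (FractionRing A)) ⟶ Z)
    (hx : x ≫ g = Spec.map (CommRingCat.ofHom (algebraMap A (FractionRing A)))) :
    ∃ s : Spec A ⟶ Z, s ≫ g = 𝟙 _ ∧ Spec.map (CommRingCat.ofHom (algebraMap A (FractionRing A))) ≫ s = x :=
  Proj16.exists_section_of_isClosedMap g hg x hx

/-- A regular local ring of dimension at most one is a valuation ring. -/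
theorem valuationRing_of_regular (A : Type u) [CommRing A] [IsRegularLocalRing A]
    (h : ringKrullDim A ≤ 1) :
    haveI := RegLoc6.isDomain_of_isRegularLocalRing A
    ValuationRing A := by
  haveI := RegLoc6.isDomain_of_isRegularLocalRing A
  have hd := (IsRegularLocalRing.iff_finrank_cotangentSpace A).1 inferInstance
  rw [← hd] at h
  exact ((tfae_of_isNoetherianRing_of_isLocalRing_of_isDomain A).out 5 1).1 (by exact_mod_cast h)

/-- A section over a dense open extends near a point of codimension at most one. -/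
theorem exists_local [IsLocallyNoetherian Y] [IsReduced Y] (f : X ⟶ Y) [IsSeparated f] [LocallyOfFiniteType f]
    (hcl : IsClosedMap f) (V : Y.Opens) (hV : Dense (V : Set Y)) (s : (V : Scheme.{u}) ⟶ X) (hs : s ≫ f = V.ι)
    (y : Y) (hy : IsRegularLocalRing (Y.presheaf.stalk y)) (hd : ringKrullDim (Y.presheaf.stalk y) ≤ 1) :
    ∃ (W : Y.Opens) (t : (W : Scheme.{u}) ⟶ X), y ∈ W ∧ t ≫ f = W.ι ∧
      Y.homOfLE (inf_le_left : W ⊓ V ≤ W) ≫ t = Y.homOfLE (inf_le_right : W ⊓ V ≤ V) ≫ s := by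
  haveI := hy
  haveI hdom := RegLoc6.isDomain_of_isRegularLocalRing (Y.presheaf.stalk y)
  haveI hval := valuationRing_of_regular (Y.presheaf.stalk y) hd
  haveI : IsPreimmersion (Y.fromSpecStalk y) := inferInstance
  let K := FractionRing (Y.presheaf.stalk y)
  let a : Spec (CommRingCat.of K) ⟶ Spec (CommRingCat.of (Y.presheaf.stalk y)) := Spec.map (CommRingCat.ofHom (algebraMap (Y.presheaf.stalk y) K))
  let j : Spec (CommRingCat.of K) ⟶ Y := a ≫ Y.fromSpecStalk y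
  let η : Y := j (closedPoint K)
  have hηy : η ⤳ y := by
    have h1 : η ∈ Set.range (Y.fromSpecStalk y) := ⟨_, rfl⟩
    rwa [Scheme.range_fromSpecStalk] at h1
  have hmax : ∀ y', y' ⤳ η → y' = η := fun y' hy' => by
    obtain ⟨q, rfl⟩ : y' ∈ Set.range (Y.fromSpecStalk y) := by
      rw [Scheme.range_fromSpecStalk]; exact hy'.trans hηy
    refine congrArg _ ?_
    have h2 : q ⤳ a (closedPoint K) := (Y.fromSpecStalk y).isEmbedding.isInducing.specializes_iff.1 hy'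
    have h3 := (PrimeSpectrum.le_iff_specializes (R := Y.presheaf.stalk y) _ _).2 h2
    have h4 : (a (closedPoint K)).asIdeal = ⊥ := by
      show (maximalIdeal K).comap (algebraMap (Y.presheaf.stalk y) K) = ⊥
      rw [maximalIdeal_eq_bot]
      exact (RingHom.ker_eq_bot_iff_eq_zero _).2 fun x hx => (map_eq_zero_iff _ (IsFractionRing.injective (Y.presheaf.stalk y) K)).1 hx
    refine PrimeSpectrum.ext ?_
    exact le_antisymm h3 (h4.trans_le bot_le)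
  have hηV : η ∈ V := FlatDense.mem_of_dense_of_max_scheme V hV hmax
  let jV := IsOpenImmersion.lift V.ι j (by
    rw [Scheme.Opens.range_ι]; rintro _ ⟨p, rfl⟩
    rw [Subsingleton.elim p (closedPoint K)]; exact hηV)
  have hjV : jV ≫ V.ι = j := IsOpenImmersion.lift_fac _ _ _
  let x : Spec (CommRingCat.of K) ⟶ pullback f (Y.fromSpecStalk y) :=
    pullback.lift (jV ≫ s) a (by rw [Category.assoc, hs, hjV])
  have hcl' : IsClosedMap (pullback.snd f (Y.fromSpecStalk y)) := isClosedMap_pullback_snd f _ hcl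
  obtain ⟨σ, hσ₁, hσ₂⟩ := exists_section_cat (A := Y.presheaf.stalk y)
    (pullback.snd f (Y.fromSpecStalk y)) hcl' x (pullback.lift_snd _ _ _)
  let φ : Spec (Y.presheaf.stalk y) ⟶ X := σ ≫ pullback.fst f (Y.fromSpecStalk y)
  have hφ : φ ≫ f = Y.fromSpecStalk y ≫ 𝟙 Y := by
    rw [Category.comp_id, Category.assoc, pullback.condition, ← Category.assoc, hσ₁, Category.id_comp]
  obtain ⟨U₀, hyU₀, g, hgφ, hg⟩ := spread_out_of_isGermInjective' (𝟙 Y) f φ hφ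
  rw [Category.comp_id] at hg
  obtain ⟨N, hyN, hN, hNU, hNinj⟩ := Y.exists_le_and_germ_injective y U₀ hyU₀
  haveI : IsDomain Γ(Y, N) := hNinj.isDomain
  haveI : Nonempty N.toScheme := ⟨⟨y, hyN⟩⟩
  haveI hNint : IsIntegral N.toScheme :=
    haveI : IsIntegral (Spec Γ(Y, N)) := inferInstance
    isIntegral_of_isOpenImmersion hN.isoSpec.hom
  refine ⟨N, Y.homOfLE hNU ≫ g, hyN, by rw [Category.assoc, hg, Scheme.homOfLE_ι], ?_⟩
  have hηN : η ∈ N := hηy.mem_open N.2 hyN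
  let δ := IsOpenImmersion.lift (N ⊓ V).ι j (by
    rw [Scheme.Opens.range_ι]; rintro _ ⟨p, rfl⟩
    rw [Subsingleton.elim p (closedPoint K)]; exact ⟨hηN, hηV⟩)
  have hδ : δ ≫ (N ⊓ V).ι = j := IsOpenImmersion.lift_fac _ _ _
  haveI : IsDominant δ := by
    refine ⟨fun z => ?_⟩
    refine closure_mono (Set.singleton_subset_iff.2 (Set.mem_range_self (f := (δ : _ → _)) (closedPoint K)))
      (specializes_iff_mem_closure.1 ?_)
    apply (N ⊓ V).ι.isOpenEmbedding.isInducing.specializes_iff.1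
    rw [← Scheme.Hom.comp_apply, hδ]
    have hz : ((N ⊓ V).ι z) ∈ N := z.2.1
    have hgen : N.ι (genericPoint N.toScheme) ⤳ η :=
      ((genericPoint_spec N.toScheme).specializes (Set.mem_univ (⟨η, hηN⟩ : N.toScheme))).map N.ι.continuous
    show η ⤳ _
    rw [← hmax _ hgen]
    exact ((genericPoint_spec N.toScheme).specializes (Set.mem_univ (⟨_, hz⟩ : N.toScheme))).map N.ι.continuous
  refine ext_of_isDominant_of_isSeparated f
    (by simp only [Category.assoc, hg, hs, Scheme.homOfLE_ι]) δ ?_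
  have e1 : δ ≫ Y.homOfLE (inf_le_left : N ⊓ V ≤ N) ≫ Y.homOfLE hNU = a ≫ U₀.fromSpecStalkOfMem y hyU₀ := by
    rw [← cancel_mono U₀.ι]
    simp only [Category.assoc, Scheme.homOfLE_ι, Scheme.Opens.fromSpecStalkOfMem_ι]
    exact hδ
  have e2 : δ ≫ Y.homOfLE (inf_le_right : N ⊓ V ≤ V) = jV := by
    rw [← cancel_mono V.ι, Category.assoc, Scheme.homOfLE_ι, hδ, hjV]
  rw [reassoc_of% e1, reassoc_of% e2, ← hgφ]
  show a ≫ σ ≫ pullback.fst f _ = _
  rw [← Category.assoc, hσ₂]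
  exact pullback.lift_fst _ _ _

/-- Sections over opens, compatible with a given one on a dense open, glue. -/
theorem exists_glue [IsReduced Y] (f : X ⟶ Y) [IsSeparated f] (V : Y.Opens) (hV : Dense (V : Set Y))
    (s : (V : Scheme.{u}) ⟶ X) (hs : s ≫ f = V.ι) :
    ∃ (U : Y.Opens) (hVU : V ≤ U) (s' : (U : Scheme.{u}) ⟶ X), s' ≫ f = U.ι ∧ Y.homOfLE hVU ≫ s' = s ∧
      ∀ (W : Y.Opens) (t : (W : Scheme.{u}) ⟶ X), t ≫ f = W.ι →
        Y.homOfLE (inf_le_left : W ⊓ V ≤ W) ≫ t = Y.homOfLE (inf_le_right : W ⊓ V ≤ V) ≫ s → W ≤ U := by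
  let I := {p : Σ W : Y.Opens, (W.toScheme ⟶ X) // p.2 ≫ f = p.1.ι ∧
    Y.homOfLE (inf_le_left : p.1 ⊓ V ≤ p.1) ≫ p.2 = Y.homOfLE (inf_le_right : p.1 ⊓ V ≤ V) ≫ s}
  let U : Y.Opens := ⨆ p : I, p.1.1
  have hle : ∀ p : I, p.1.1 ≤ U := fun p => le_iSup (fun p : I => p.1.1) p
  let m : ∀ p : I, (U.ι ⁻¹ᵁ p.1.1).toScheme ⟶ p.1.1.toScheme := fun p =>
    IsOpenImmersion.lift p.1.1.ι ((U.ι ⁻¹ᵁ p.1.1).ι ≫ U.ι) (by
      rw [Scheme.Opens.range_ι]; rintro _ ⟨z, rfl⟩; exact z.2)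
  have hm : ∀ p : I, m p ≫ p.1.1.ι = (U.ι ⁻¹ᵁ p.1.1).ι ≫ U.ι := fun p => IsOpenImmersion.lift_fac _ _ _
  have hcov : IsOpenCover fun p : I => U.ι ⁻¹ᵁ p.1.1 := by
    refine IsOpenCover.mk (top_le_iff.mp fun z _ => ?_)
    obtain ⟨p, hp⟩ := Opens.mem_iSup.mp z.2
    exact Opens.mem_iSup.mpr ⟨p, hp⟩
  let 𝒰 := U.toScheme.openCoverOfIsOpenCover _ hcov
  have key : ∀ (P : Scheme.{u}) (i : P ⟶ Y) [IsOpenImmersion i] (p : I) (l : P ⟶ p.1.1.toScheme),
      l ≫ p.1.1.ι = i → (i ⁻¹ᵁ V).ι ≫ l ≫ p.1.2 =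
        IsOpenImmersion.lift V.ι ((i ⁻¹ᵁ V).ι ≫ i) (by
          rw [Scheme.Opens.range_ι]; rintro _ ⟨z, rfl⟩; exact z.2) ≫ s := fun P i _ p l hl => by
    let k := IsOpenImmersion.lift (p.1.1 ⊓ V).ι ((i ⁻¹ᵁ V).ι ≫ i) (by
      rw [Scheme.Opens.range_ι]; rintro _ ⟨z, rfl⟩
      refine ⟨?_, z.2⟩
      have h0 := congrArg (fun g : P ⟶ Y => g ((i ⁻¹ᵁ V).ι z)) hl
      dsimp only at h0
      rw [Scheme.Hom.comp_apply] at h0 ⊢
      rw [← h0]
      exact (l _).2)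
    have hk : k ≫ (p.1.1 ⊓ V).ι = (i ⁻¹ᵁ V).ι ≫ i := IsOpenImmersion.lift_fac _ _ _
    have e1 : k ≫ Y.homOfLE (inf_le_left : p.1.1 ⊓ V ≤ p.1.1) = (i ⁻¹ᵁ V).ι ≫ l := by
      rw [← cancel_mono p.1.1.ι, Category.assoc, Category.assoc, Scheme.homOfLE_ι, hk, hl]
    rw [← reassoc_of% e1, p.2.2, ← Category.assoc]
    congr 1
    rw [← cancel_mono V.ι, Category.assoc, Scheme.homOfLE_ι, hk, IsOpenImmersion.lift_fac]
  have compat : ∀ p q : I, pullback.fst (U.ι ⁻¹ᵁ p.1.1).ι (U.ι ⁻¹ᵁ q.1.1).ι ≫ m p ≫ p.1.2 =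
      pullback.snd _ _ ≫ m q ≫ q.1.2 := fun p q => by
    let i := pullback.fst (U.ι ⁻¹ᵁ p.1.1).ι (U.ι ⁻¹ᵁ q.1.1).ι ≫ (U.ι ⁻¹ᵁ p.1.1).ι ≫ U.ι
    haveI : IsOpenImmersion i := inferInstance
    haveI := isReduced_of_isOpenImmersion i
    have hdense : Dense ((i ⁻¹ᵁ V : Opens _) : Set ↥(pullback (U.ι ⁻¹ᵁ p.1.1).ι (U.ι ⁻¹ᵁ q.1.1).ι)) :=
      hV.preimage i.isOpenEmbedding.isOpenMap
    haveI : IsDominant (i ⁻¹ᵁ V).ι := ⟨by rw [DenseRange, Scheme.Opens.range_ι]; exact hdense⟩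
    have hp : (pullback.fst (U.ι ⁻¹ᵁ p.1.1).ι (U.ι ⁻¹ᵁ q.1.1).ι ≫ m p) ≫ p.1.1.ι = i := by
      rw [Category.assoc, hm]
    have hq : (pullback.snd (U.ι ⁻¹ᵁ p.1.1).ι (U.ι ⁻¹ᵁ q.1.1).ι ≫ m q) ≫ q.1.1.ι = i := by
      rw [Category.assoc, hm, ← Category.assoc, ← pullback.condition, Category.assoc]
    rw [← Category.assoc, ← Category.assoc]
    refine ext_of_isDominant_of_isSeparated f ?_ (i ⁻¹ᵁ V).ι ?_
    · rw [Category.assoc, p.2.1, hp, Category.assoc, q.2.1, hq]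
    · rw [key _ i p _ hp, key _ i q _ hq]
  let s' : U.toScheme ⟶ X := 𝒰.glueMorphisms (fun p => m p ≫ p.1.2) compat
  have hs' : ∀ p : I, (U.ι ⁻¹ᵁ p.1.1).ι ≫ s' = m p ≫ p.1.2 := fun p => 𝒰.ι_glueMorphisms _ _ p
  have hrestr : ∀ p : I, Y.homOfLE (hle p) ≫ s' = p.1.2 := fun p => by
    let l := IsOpenImmersion.lift (U.ι ⁻¹ᵁ p.1.1).ι (Y.homOfLE (hle p)) (by
      rw [Scheme.Opens.range_ι]; rintro _ ⟨z, rfl⟩
      show (Y.homOfLE (hle p) ≫ U.ι) z ∈ p.1.1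
      rw [Scheme.homOfLE_ι]; exact z.2)
    have hl : l ≫ (U.ι ⁻¹ᵁ p.1.1).ι = Y.homOfLE (hle p) := IsOpenImmersion.lift_fac _ _ _
    have h1 : l ≫ m p = 𝟙 _ := by
      rw [← cancel_mono p.1.1.ι, Category.assoc, hm, reassoc_of% hl, Scheme.homOfLE_ι, Category.id_comp]
    rw [← hl, Category.assoc, hs', reassoc_of% h1]
  let pV : I := ⟨⟨V, s⟩, hs, rfl⟩
  refine ⟨U, hle pV, s', ?_, hrestr pV, fun W t h1 h2 => hle ⟨⟨W, t⟩, h1, h2⟩⟩
  refine 𝒰.hom_ext _ _ fun p => ?_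
  show (U.ι ⁻¹ᵁ p.1.1).ι ≫ s' ≫ f = _
  rw [← Category.assoc]
  erw [hs' p]
  rw [Category.assoc, p.2.1]
  exact hm p

/-- Extension over points of codimension at most one. -/
theorem exists_extension [IsLocallyNoetherian Y] [IsReduced Y]
    (hreg : ∀ y : Y, ringKrullDim (Y.presheaf.stalk y) ≤ 1 → IsRegularLocalRing (Y.presheaf.stalk y))
    (f : X ⟶ Y) [IsSeparated f] [LocallyOfFiniteType f] (hcl : IsClosedMap f)
    (V : Y.Opens) (hV : Dense (V : Set Y)) (s : (V : Scheme.{u}) ⟶ X) (hs : s ≫ f = V.ι) :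
    ∃ (U : Y.Opens) (hVU : V ≤ U) (s' : (U : Scheme.{u}) ⟶ X), s' ≫ f = U.ι ∧ Y.homOfLE hVU ≫ s' = s ∧
      ∀ y : Y, ringKrullDim (Y.presheaf.stalk y) ≤ 1 → y ∈ U := by
  obtain ⟨U, hVU, s', h1, h2, h3⟩ := exists_glue f V hV s hs
  refine ⟨U, hVU, s', h1, h2, fun y hy => ?_⟩
  obtain ⟨W, t, hyW, ht, hts⟩ := exists_local f hcl V hV s hs y (hreg y hy) hy
  exact h3 W t ht hts hyW

end Groth.Agent.SecExt
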